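import Mathlib

/-!
# Two commuting fixed point free elements of prime order
-/

set_option autoImplicit false

namespace Cfsg.Agent.SingularOrder

universe u

variable {Q : Type u} [Group Q] [Finite Q]

/-- A four-group analogue: `⟨a, e⟩` cannot act fixed point freely on a coprime abelian group. -/
theorem eq_bot_of_fpf {p : ℕ} [hp : Fact p.Prime] (V : Subgroup Q) [hV : V.Normal]
    (hab : ∀ v ∈ V, ∀ w ∈ V, v * w = w * v) (hcop : ¬ p ∣ Nat.card V) {a e : Q}
    (hcomm : a * e = e * a) (ha : a ^ p = 1) (he : e ^ p = 1)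
    (hfa : ∀ v ∈ V, a * v = v * a → v = 1)
    (hfe : ∀ j : ℕ, ∀ v ∈ V, e * a ^ j * v = v * (e * a ^ j) → v = 1) : V = ⊥ := by
  classical
  letI : CommGroup V :=
    { (inferInstance : Group V) with mul_comm := fun v w => Subtype.ext (hab v v.2 w w.2) }
  let c : Q → V →* V := fun x => (MulAut.conjNormal x : MulAut V).toMonoidHom
  have hc : ∀ x y v, c (x * y) v = c x (c y v) := fun x y v => by
    show (MulAut.conjNormal (x * y) : MulAut V) v = _
    rw [map_mul]; rfl
  have hmod : ∀ {x : Q}, x ^ p = 1 → ∀ n : ℕ, x ^ n = x ^ (n % p) := fun {x} hx n =>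
    pow_eq_pow_mod n hx
  -- fixed point free elements have trivial norms
  have hnorm : ∀ x : Q, x ^ p = 1 → (∀ v ∈ V, x * v = v * x → v = 1) →
      ∀ v : V, ∏ i : ZMod p, c (x ^ i.val) v = 1 := by
    intro x hx hfix v
    set n := ∏ i : ZMod p, c (x ^ i.val) v
    have hn : c x n = n := by
      rw [map_prod]
      refine Fintype.prod_equiv (Equiv.addRight (1 : ZMod p)) _ _ fun i => ?_
      rw [← hc, ← pow_succ']
      show c (x ^ (i.val + 1)) v = c (x ^ (i + 1).val) v
      rw [ZMod.val_add, ZMod.val_one, ← hmod hx]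
    refine Subtype.ext (hfix n n.2 ?_)
    exact mul_inv_eq_iff_eq_mul.mp (congrArg (fun w : V => (w : Q)) hn)
  rw [eq_bot_iff]
  intro v hv
  have hea : ∀ j : ZMod p, (e * a ^ j.val) ^ p = 1 := by
    intro j
    rw [((Commute.pow_left hcomm j.val).symm).mul_pow, he, ← pow_mul, mul_comm, pow_mul, ha,
      one_pow, one_mul]
  have h1 : ∏ j : ZMod p, ∏ i : ZMod p, c ((e * a ^ j.val) ^ i.val) ⟨v, hv⟩ = 1 :=
    Finset.prod_eq_one fun j _ => hnorm _ (hea j) (hfe j.val) _
  rw [Finset.prod_comm] at h1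
  have hzero : ∀ i : ZMod p, i ≠ 0 →
      ∏ j : ZMod p, c ((e * a ^ j.val) ^ i.val) ⟨v, hv⟩ = 1 := by
    intro i hi
    have hre : ∀ j : ZMod p,
        c ((e * a ^ j.val) ^ i.val) ⟨v, hv⟩ = c (e ^ i.val) (c (a ^ (j * i).val) ⟨v, hv⟩) := by
      intro j
      rw [← hc, ((Commute.pow_left hcomm j.val).symm).mul_pow, ← pow_mul, ZMod.val_mul, ← hmod ha]
    rw [Finset.prod_congr rfl fun j _ => hre j, ← map_prod,
      Fintype.prod_equiv (Equiv.mulRight₀ i hi) (fun j : ZMod p => c (a ^ (j * i).val) ⟨v, hv⟩)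
        (fun j : ZMod p => c (a ^ j.val) ⟨v, hv⟩) (fun j => rfl),
      hnorm a ha hfa, map_one]
  rw [Fintype.prod_eq_single 0 fun i hi => hzero i hi] at h1
  simp only [ZMod.val_zero, pow_zero] at h1
  rw [Finset.prod_const, Finset.card_univ, ZMod.card] at h1
  have h2 : v ^ p = 1 := by
    have := congrArg (fun w : V => (w : Q)) h1
    simpa [c] using this
  rcases (Nat.dvd_prime hp.out).mp (orderOf_dvd_of_pow_eq_one h2) with h | h
  · exact Subgroup.mem_bot.mpr (orderOf_eq_one_iff.mp h)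
  · exact absurd (h ▸ Subgroup.orderOf_coe (⟨v, hv⟩ : V) ▸ orderOf_dvd_natCard _) hcop

end Cfsg.Agent.SingularOrder
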