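import Cfsg.Agent.Lib.CT.Clifford
import Cfsg.Agent.Lib.CT.Kernel
import Cfsg.Agent.Lib.CT.Integral
import Cfsg.Agent.Lib.CT.Garrison
import Mathlib.GroupTheory.FiniteAbelian.Duality
import Mathlib.RingTheory.RootsOfUnity.EnoughRootsOfUnity

/-!
# Producing vanishing elements
-/

set_option autoImplicit false
set_option linter.style.haveILetI false

namespace Cfsg.Agent.SingularOrder

open Cfsg.Agent.CT

universe u

/-- An element at which some irreducible character vanishes. -/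
def Van {Q : Type u} [Group Q] (u : Q) : Prop := ∃ χ : IrrCharacter Q, (χ : Q → ℂ) u = 0

theorem van_of_map {Q R : Type u} [Group Q] [Group R] (f : Q →* R) (hf : Function.Surjective f)
    {u : Q} (h : Van (f u)) : Van u := by
  obtain ⟨χ, hχ⟩ := h
  exact ⟨⟨fun g => (χ : R → ℂ) (f g), isIrrCharacter_comp f hf χ.2⟩, hχ⟩

theorem van_conj {Q : Type u} [Group Q] {u : Q} (h : Van u) (x : Q) : Van (x * u * x⁻¹) := by
  obtain ⟨χ, hχ⟩ := h
  exact ⟨χ, by rw [isClassFunction_of_isIrr χ.2 u x, hχ]⟩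

variable {Q : Type u} [Group Q] [Finite Q]

/-- A coprime abelian group acting faithfully on an abelian normal subgroup gives vanishing
elements. -/
theorem van_regular (V Z : Subgroup Q) [hV : V.Normal]
    (hVab : ∀ v ∈ V, ∀ w ∈ V, v * w = w * v) (hZab : ∀ a ∈ Z, ∀ b ∈ Z, a * b = b * a)
    (hcop : (Nat.card Z).Coprime (Nat.card V))
    (hfaith : ∀ a ∈ Z, (∀ v ∈ V, a * v = v * a) → a = 1)
    (hcov : ∀ h : Q, ∃ v ∈ V, ∃ n, (∀ a ∈ Z, n * a * n⁻¹ ∈ Z) ∧ h = v * n)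
    {z : Q} (hz : z ∈ Z) (hz1 : z ≠ 1) {w : Q} (hw : w ∈ V) : Van (z * w) := by
  classical
  haveI := Fintype.ofFinite Q
  haveI := Fintype.ofFinite V
  letI : CommGroup V :=
    { (inferInstance : Group V) with mul_comm := fun v u => Subtype.ext (hVab v v.2 u u.2) }
  haveI : Finite (V →* ℂˣ) :=
    Nat.finite_of_card_ne_zero
      (by rw [CommGroup.card_monoidHom_of_hasEnoughRootsOfUnity V ℂ]; exact Nat.card_pos.ne')
  let σ : Z → (V →* ℂˣ) →* (V →* ℂˣ) := fun a =>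
    { toFun := fun d => d.comp (MulAut.conjNormal (a : Q)⁻¹ : MulAut V).toMonoidHom
      map_one' := MonoidHom.ext fun x => rfl
      map_mul' := fun d d' => MonoidHom.ext fun x => rfl }
  have h1σ : ∀ d, σ 1 d = d := fun d => MonoidHom.ext fun x =>
    congrArg d (Subtype.ext (by simp))
  have hmulσ : ∀ (a b : Z) d, σ (a * b) d = σ a (σ b d) := fun a b d => MonoidHom.ext fun x =>
    congrArg d (Subtype.ext (by simp [mul_assoc]))
  have hZc : ∀ a b : Z, a * b = b * a := fun a b => Subtype.ext (hZab a a.2 b b.2)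
  obtain ⟨d, -, hd⟩ := Garrison.exists_regular hZc σ h1σ hmulσ
    (by rw [CommGroup.card_monoidHom_of_hasEnoughRootsOfUnity V ℂ]; exact hcop) ⊤
    (fun _ _ _ => trivial)
  set φ : V → ℂ := fun v => (d v : ℂ) with hφdef
  have hφ : IsIrrCharacter V φ := isIrrCharacter_lin d
  obtain ⟨χ, hχ⟩ := exists_irr_over V hφ
  refine ⟨χ, ?_⟩
  set T := inertia V φ with hT
  haveI := Fintype.ofFinite T
  have hVT : V ≤ T := le_inertia V (isClassFunction_of_isIrr hφ)
  obtain ⟨ψ, -, hind, -⟩ := exists_correspondent V hφ T rfl hVT χ.2 hχ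
  rw [← hind]
  refine indFun_eq_zero_of_not_conj_mem T ψ fun x hx => hz1 ?_
  obtain ⟨v, hv, n, hn, hxn⟩ := hcov x⁻¹
  have hc : n * z * n⁻¹ ∈ T := by
    have e : x⁻¹ * (z * w) * x = v * (n * z * n⁻¹) * (n * w * n⁻¹) * v⁻¹ := by
      rw [← inv_inv x, inv_inv x⁻¹, hxn]; group
    rw [e] at hx
    have h3 := T.mul_mem (T.mul_mem (T.inv_mem (hVT hv)) hx) (hVT hv)
    have h4 := T.mul_mem h3 (T.inv_mem (hVT (hV.conj_mem w hw n)))
    simpa [mul_assoc] using h4
  set a : Z := ⟨(n * z * n⁻¹)⁻¹, Z.inv_mem (hn z hz)⟩ with ha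
  have hfix : σ a d = d := by
    refine MonoidHom.ext fun y => Units.ext ?_
    have h5 := congrFun hc y
    show φ _ = φ y
    refine Eq.trans (congrArg φ (Subtype.ext ?_)) h5
    simp [ha, mul_assoc]
  have htriv : ((a : Q)) = 1 := by
    refine hfaith _ a.2 fun u hu => ?_
    have hall := hd a hfix
    by_contra hne
    set y : V := (MulAut.conjNormal (a : Q)⁻¹ : MulAut V) ⟨u, hu⟩ * (⟨u, hu⟩ : V)⁻¹ with hy
    have hy1 : y ≠ 1 := by
      intro h
      apply hne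
      have h6 := congrArg (fun t : V => (t : Q)) (mul_inv_eq_one.mp (hy ▸ h))
      simp only [MulAut.conjNormal_apply, inv_inv] at h6
      calc (a : Q) * u = a * ((a : Q)⁻¹ * u * a) := by rw [h6]
        _ = u * a := by group
    obtain ⟨d', hd'⟩ := CommGroup.exists_apply_ne_one_of_hasEnoughRootsOfUnity V ℂ hy1
    apply hd'
    have h7 : d' ((MulAut.conjNormal (a : Q)⁻¹ : MulAut V) ⟨u, hu⟩) = d' ⟨u, hu⟩ :=
      DFunLike.congr_fun (hall d' trivial) ⟨u, hu⟩
    rw [hy, map_mul, h7, ← map_mul, mul_inv_cancel, map_one]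
  have : n * z * n⁻¹ = 1 := inv_eq_one.mp htriv
  simpa using this

/-- A noncentral element of the second centre of a normal subgroup vanishes. -/
theorem van_second_center (A C : Subgroup Q) [hA : A.Normal] [hC : C.Normal] (hCA : C ≤ A)
    (hCc : ∀ c ∈ C, ∀ x ∈ A, c * x = x * c) (hCp : (Nat.card C).Prime)
    {a w : Q} (ha : a ∈ A) (hw : w ∈ A) (hmem : a * w * a⁻¹ * w⁻¹ ∈ C)
    (hne : a * w * a⁻¹ * w⁻¹ ≠ 1) : Van w := by
  classical
  haveI := Fintype.ofFinite Q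
  haveI := Fintype.ofFinite A
  set c := a * w * a⁻¹ * w⁻¹ with hcdef
  obtain ⟨θ, hθ⟩ : ∃ θ : IrrCharacter A, (θ : A → ℂ) ⟨c, hCA hmem⟩ ≠ (θ : A → ℂ) 1 := by
    by_contra h
    push Not at h
    exact hne (congrArg (fun t : A => (t : Q)) (isConj_one_left.mp (isConj_iff_forall_irr.mpr h)))
  have hnt : ∀ c' ∈ C, c' ≠ 1 → ∀ h : c' ∈ A, (θ : A → ℂ) ⟨c', h⟩ ≠ (θ : A → ℂ) 1 := by
    intro c' hc' hc'1 h heq
    haveI := Fact.mk hCp
    have hgen := zpowers_eq_top_of_prime_card (G := C) rfl (g := ⟨c', hc'⟩)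
      (fun e => hc'1 (congrArg (fun t : C => (t : Q)) e))
    obtain ⟨k, hk⟩ := Subgroup.mem_zpowers_iff.mp
      (hgen ▸ Subgroup.mem_top (⟨c, hmem⟩ : C) : (⟨c, hmem⟩ : C) ∈ Subgroup.zpowers ⟨c', hc'⟩)
    have hk' : c' ^ k = c := congrArg (fun t : C => (t : Q)) hk
    have hm : (⟨c, hCA hmem⟩ : A) ∈ kerChar (θ : A → ℂ) := by
      have e : (⟨c, hCA hmem⟩ : A) = (⟨c', h⟩ : A) ^ k := Subtype.ext (by simpa using hk'.symm)
      rw [e]
      exact Subgroup.zpow_mem _ ((mem_kerChar_iff (isCharacter_of_isIrr θ.2)).mpr heq) k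
    exact hθ ((mem_kerChar_iff (isCharacter_of_isIrr θ.2)).mp hm)
  have hzero : ∀ g : Q, conjFun A g (θ : A → ℂ) ⟨w, hw⟩ = 0 := by
    intro g
    have hηi : IsIrrCharacter A (conjFun A g (θ : A → ℂ)) := isIrrCharacter_conjFun A g θ.2
    have hη1 : conjFun A g (θ : A → ℂ) ⟨c, hCA hmem⟩ ≠ conjFun A g (θ : A → ℂ) 1 := by
      intro h
      refine hnt _ (hC.conj_mem c hmem g) (fun e => hne (by simpa using e))
        (hA.conj_mem c (hCA hmem) g) (h.trans ?_)
      exact congrArg (θ : A → ℂ) (Subtype.ext (by simp))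
    have hcl : conjFun A g (θ : A → ℂ) (⟨c, hCA hmem⟩ * ⟨w, hw⟩) =
        conjFun A g (θ : A → ℂ) ⟨w, hw⟩ := by
      have h := isClassFunction_of_isIrr hηi ⟨w, hw⟩ ⟨a, ha⟩
      refine Eq.trans (congrArg _ ?_) h
      exact Subtype.ext (by simp [hcdef])
    obtain ⟨m, ρ, hρ, hρe⟩ := hηi
    haveI := hρ
    rw [← hρe] at hη1 hcl ⊢
    obtain ⟨ω, hω, -⟩ := central_scalar ρ (z := (⟨c, hCA hmem⟩ : A))
      (Subgroup.mem_center_iff.mpr fun x => Subtype.ext (hCc c hmem x x.2).symm)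
    have hω1 : ω ≠ 1 := by
      rintro rfl
      refine hη1 ?_
      rw [Representation.char_one]
      simp [Representation.character, hω]
    have h2 : ω * ρ.character ⟨w, hw⟩ = ρ.character ⟨w, hw⟩ := by
      conv_rhs => rw [← hcl]
      simp only [Representation.character, map_mul, hω]
      rw [smul_mul_assoc, map_smul, smul_eq_mul]
      rfl
    by_contra h0
    exact hω1 ((mul_eq_right₀ h0).mp h2)
  obtain ⟨χ, hχ⟩ := exists_irr_over A θ.2
  refine ⟨χ, ?_⟩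
  have h := congrFun (clifford A χ.2 θ.2 hχ) ⟨w, hw⟩
  simp only [Pi.smul_apply, Finset.sum_apply] at h
  rw [h, Finset.sum_eq_zero fun ψ hψ => ?_, smul_zero]
  obtain ⟨g, rfl⟩ := (mem_conjOrbit A).mp hψ
  exact hzero g

end Cfsg.Agent.SingularOrder
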