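import Cfsg.Agent.Lib.CT.SingularOrder.Fpf
import Cfsg.Agent.Lib.CT.SingularOrder.Vanish
import Cfsg.Agent.Lib.Basics.Cores
import Cfsg.Agent.Lib.Basics.Tools
import Cfsg.Agent.Lib.OddLocal.Rank

/-!
# Groups in which the singular vanishing elements have a single order
-/

set_option autoImplicit false
set_option linter.style.haveILetI false
set_option linter.unusedSectionVars false

namespace Cfsg.Agent.SingularOrder

open Cfsg.Agent

universe u

/-- The consequences of a single order of singular vanishing elements that pass to quotients. -/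
def Good (p : ℕ) (Q : Type u) [Group Q] : Prop :=
  (∀ u : Q, p ∣ orderOf (u ^ p) → Van u → Van (u ^ p) → False) ∧
    ∀ u v : Q, u ^ p = 1 → u ≠ 1 → u * v = v * u → v ≠ 1 → ¬ p ∣ orderOf v →
      Van u → Van (u * v) → False

variable {p : ℕ} [hp : Fact p.Prime]

theorem dvd_orderOf_map {Q R : Type u} [Group Q] [Finite Q] [Group R] (f : Q →* R) {g : Q}
    (h : p ∣ orderOf (f g)) : p ∣ orderOf g :=
  h.trans (orderOf_map_dvd f g)

/-- A single order passes to `Good` of every quotient. -/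
theorem good_of_order {G Q : Type u} [Group G] [Finite G] [Group Q] (f : G →* Q)
    (hf : Function.Surjective f) {b : ℕ}
    (hb : ∀ g : G, p ∣ orderOf g → Van g → orderOf g = b) : Good p Q := by
  haveI : Finite Q := Finite.of_surjective f hf
  constructor
  · intro u hu hv hvp
    obtain ⟨g, rfl⟩ := hf u
    rw [← map_pow] at hu hvp
    have h1 := dvd_orderOf_map f hu
    have h0 : p ∣ orderOf g := h1.trans (orderOf_pow_dvd p)
    have e1 := hb g h0 (van_of_map f hf hv)
    have e2 := hb (g ^ p) h1 (van_of_map f hf hvp)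
    rw [orderOf_pow, Nat.gcd_eq_right h0, e1] at e2
    have hpos : 0 < b := e1 ▸ orderOf_pos g
    exact (Nat.div_lt_self hpos hp.out.one_lt).ne e2
  · intro u v hu hu1 huv hv1 hvp hVu hVuv
    have hup : orderOf u = p := orderOf_eq_prime hu hu1
    -- a lift which is a `p`-element
    obtain ⟨g, rfl⟩ := hf u
    obtain ⟨k, m, hm, hgm⟩ := Nat.exists_eq_pow_mul_and_not_dvd (orderOf_pos g).ne' p hp.out.ne_one
    obtain ⟨a, ha⟩ : ∃ a, m * a ≡ 1 [MOD p] := by
      obtain ⟨a, ha⟩ := Nat.exists_mul_mod_eq_one_of_coprime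
        ((hp.out.coprime_iff_not_dvd.mpr hm).symm) hp.out.one_lt
      exact ⟨a, by unfold Nat.ModEq; rw [ha.2, Nat.mod_eq_of_lt hp.out.one_lt]⟩
    set g' := g ^ (m * a) with hg'
    have hfg' : f g' = f g := by
      rw [hg', map_pow, ← pow_mod_orderOf, hup, ha, Nat.mod_eq_of_lt hp.out.one_lt, pow_one]
    have hg'p : g' ^ (p ^ k) = 1 := by
      rw [hg', ← pow_mul, mul_comm, ← mul_assoc, ← hgm, pow_mul, pow_orderOf_eq_one, one_pow]
    have hpg' : p ∣ orderOf g' := dvd_orderOf_map f (by rw [hfg', hup])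
    have e1 := hb g' hpg' (van_of_map f hf (by rw [hfg']; exact hVu))
    have hbk : b ∣ p ^ k := e1 ▸ orderOf_dvd_of_pow_eq_one hg'p
    obtain ⟨w, hw⟩ := hf (f g * v)
    have hco : (orderOf (f g)).Coprime (orderOf v) := hup ▸ hp.out.coprime_iff_not_dvd.mpr hvp
    have how : orderOf (f g * v) = p * orderOf v := by
      rw [Commute.orderOf_mul_eq_mul_orderOf_of_coprime huv hco, hup]
    have hpw : p ∣ orderOf w := dvd_orderOf_map f (by rw [hw, how]; exact dvd_mul_right _ _)
    have e2 := hb w hpw (van_of_map f hf (by rw [hw]; exact hVuv))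
    have hd : orderOf v ∣ p ^ k :=
      (dvd_mul_left (orderOf v) p).trans (how ▸ hw ▸ (orderOf_map_dvd f w).trans (e2 ▸ hbk))
    obtain ⟨j, -, hj⟩ := (Nat.dvd_prime_pow hp.out).mp hd
    rcases j with _ | j
    · exact hv1 (orderOf_eq_one_iff.mp (hj.trans (pow_zero p)))
    · exact hvp (hj ▸ dvd_pow_self p j.succ_ne_zero)

section Layer

variable {Q : Type u} [Group Q] [Finite Q] [Group.IsSolvable Q]

theorem pCore_eq_bot_of_pgroup_ker {Q R : Type u} [Group Q] [Group R] [Finite Q] (f : Q →* R)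
    (hf : Function.Surjective f) (hker : IsPGroup p f.ker) (hle : Cfsg.pCore p Q ≤ f.ker) :
    Cfsg.pCore p R = ⊥ := by
  haveI : Finite R := Finite.of_surjective f hf
  have h := Basics.le_pCore (N := (Cfsg.pCore p R).comap f)
    ((Basics.pCore_isPGroup p).comap_of_ker_isPGroup f hker)
  rw [eq_bot_iff]
  intro x hx
  obtain ⟨y, rfl⟩ := hf x
  exact MonoidHom.mem_ker.mp (hle (h hx))

/-- The data of the first nontrivial layer. -/
theorem exists_minimal_pprime (hO : Cfsg.pCore p Q = ⊥) (hdvd : p ∣ Nat.card Q) :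
    ∃ V : Subgroup Q, V.Normal ∧ V ≠ ⊥ ∧ (∀ v ∈ V, ∀ w ∈ V, v * w = w * v) ∧
      ¬ p ∣ Nat.card V := by
  haveI : Nontrivial Q := by
    rw [← Finite.one_lt_card_iff_nontrivial]
    exact lt_of_lt_of_le hp.out.one_lt (Nat.le_of_dvd Nat.card_pos hdvd)
  obtain ⟨r, V, hr, hVn, -, hVne, hVc, hVexp⟩ :=
    Basics.exists_elementary_normal (N := (⊤ : Subgroup Q)) top_ne_bot inferInstance
  refine ⟨V, hVn, hVne, fun v hv w hw =>
    congrArg (fun t : V => (t : Q)) (hVc.is_comm.comm ⟨v, hv⟩ ⟨w, hw⟩), fun h => hVne ?_⟩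
  obtain ⟨x, hx⟩ := exists_prime_orderOf_dvd_card' p h
  have hrp : r = p := by
    have h2 : orderOf (x : Q) ∣ r := orderOf_dvd_of_pow_eq_one (hVexp x x.2)
    rw [Subgroup.orderOf_coe, hx] at h2
    exact ((Nat.prime_dvd_prime_iff_eq hp.out hr).mp h2).symm
  exact le_bot_iff.mp (hO ▸ Basics.le_pCore (N := V) (Basics.isPGroup_of_pow_eq_one (hrp ▸ hVexp)))

variable (hO : Cfsg.pCore p Q = ⊥) (V : Subgroup Q) [V.Normal] (hVp : ¬ p ∣ Nat.card V)
  (hVab : ∀ v ∈ V, ∀ w ∈ V, v * w = w * v) (P : Sylow p Q)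

/-- The preimage of the core of the quotient. -/
noncomputable abbrev layer : Subgroup Q := (Cfsg.pCore p (Q ⧸ V)).comap (QuotientGroup.mk' V)

include hVp in
theorem eq_one_of_mem {x : Q} (hxV : x ∈ V) {P : Subgroup Q} (hP : IsPGroup p P) (hx : x ∈ P) :
    x = 1 := by
  obtain ⟨k, hk⟩ := (IsPGroup.iff_orderOf.mp hP) ⟨x, hx⟩
  rw [Subgroup.orderOf_mk] at hk
  rcases k with _ | k
  · exact orderOf_eq_one_iff.mp (hk.trans (pow_zero p))
  · exact absurd ((hk ▸ dvd_pow_self p k.succ_ne_zero : p ∣ orderOf x).trans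
      (Subgroup.orderOf_coe (⟨x, hxV⟩ : V) ▸ orderOf_dvd_natCard _)) hVp

theorem le_layer : V ≤ layer (p := p) V := fun x hx => Subgroup.mem_comap.mpr (by
  rw [show QuotientGroup.mk' V x = 1 from (QuotientGroup.eq_one_iff x).mpr hx]
  exact Subgroup.one_mem _)

theorem exists_mul_of_mem_layer {r : Q} (hr : r ∈ layer (p := p) V) :
    ∃ v ∈ V, ∃ a ∈ (P : Subgroup Q) ⊓ layer (p := p) V, v * a = r := by
  have hsurj := QuotientGroup.mk'_surjective V
  have hle := Basics.pCore_le_sylow p (P.mapSurjective hsurj)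
  have h1 : QuotientGroup.mk' V r ∈ (P : Subgroup Q).map (QuotientGroup.mk' V) :=
    hle (Subgroup.mem_comap.mp hr)
  obtain ⟨a, ha, har⟩ := h1
  have h2 : r * a⁻¹ ∈ V := by
    rw [← QuotientGroup.ker_mk' V, MonoidHom.mem_ker, map_mul, map_inv, har, mul_inv_cancel]
  refine ⟨r * a⁻¹, h2, a, ⟨ha, ?_⟩, inv_mul_cancel_right r a⟩
  refine Subgroup.mem_comap.mpr ?_
  rw [har]
  exact Subgroup.mem_comap.mp hr

include hO hVp hVab in
theorem faithful {a : Q} (ha : a ∈ (P : Subgroup Q) ⊓ layer (p := p) V)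
    (hfix : ∀ v ∈ V, a * v = v * a) : a = 1 := by
  set R := layer (p := p) V with hR
  set S : Subgroup Q := R ⊓ Subgroup.centralizer (V : Set Q) with hS
  haveI : S.Normal := inferInstanceAs (R ⊓ Subgroup.centralizer (V : Set Q)).Normal
  -- the `p`-part of `S`
  set E : Subgroup Q := (P : Subgroup Q) ⊓ S with hE
  haveI : E.Normal := ⟨fun x hx g => by
    have hyS : g * x * g⁻¹ ∈ S := ‹S.Normal›.conj_mem x hx.2 g
    refine ⟨?_, hyS⟩
    obtain ⟨v, hv, c, hc, hvc⟩ := exists_mul_of_mem_layer V P hyS.1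
    have hcomm : Commute v (g * x * g⁻¹) :=
      (Subgroup.mem_centralizer_iff.mp hyS.2 v hv)
    have hcv : Commute v c := by
      have h := hcomm
      rw [← hvc] at h
      exact mul_left_cancel (h.trans (mul_assoc v c v))
    obtain ⟨k, hk⟩ := P.2 ⟨x, hx.1⟩
    obtain ⟨j, hj⟩ := P.2 ⟨c, hc.1⟩
    have hk' : (g * x * g⁻¹) ^ (p ^ (k + j)) = 1 := by
      rw [conj_pow, pow_add, pow_mul, show x ^ p ^ k = 1 from congrArg Subtype.val hk, one_pow]
      simp
    have hc' : c ^ (p ^ (k + j)) = 1 := by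
      rw [pow_add, mul_comm, pow_mul, show c ^ p ^ j = 1 from congrArg Subtype.val hj, one_pow]
    rw [← hvc, hcv.mul_pow, hc', mul_one] at hk'
    have hv1 : v = 1 := by
      have hd := orderOf_dvd_of_pow_eq_one hk'
      have hd2 : orderOf v ∣ Nat.card V :=
        Subgroup.orderOf_coe (⟨v, hv⟩ : V) ▸ orderOf_dvd_natCard _
      exact orderOf_eq_one_iff.mp (Nat.eq_one_of_dvd_coprimes
        ((hp.out.coprime_iff_not_dvd.mpr hVp).pow_left (k + j)) hd hd2)
    rw [← hvc, hv1, one_mul]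
    exact hc.1⟩
  have hle := Basics.le_pCore (N := E) (P.2.to_le inf_le_left)
  rw [hO] at hle
  exact Subgroup.mem_bot.mp (hle ⟨ha.1, ha.2,
    Subgroup.mem_centralizer_iff.mpr fun v hv => (hfix v hv).symm⟩)

include hVp in
theorem cover (h : Q) : ∃ v ∈ V, ∃ n,
    (∀ a ∈ (P : Subgroup Q) ⊓ layer (p := p) V, n * a * n⁻¹ ∈ (P : Subgroup Q) ⊓ layer (p := p) V) ∧
      h = v * n := by
  set R := layer (p := p) V with hR
  obtain ⟨S, hS⟩ : ∃ S : Sylow p R, (S : Subgroup R) = ((P : Subgroup Q) ⊓ R).subgroupOf R := by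
    obtain ⟨S, hS⟩ := (IsPGroup.comap_subtype (P.2.to_le (H := (P : Subgroup Q) ⊓ R) inf_le_left) :
      IsPGroup p (((P : Subgroup Q) ⊓ R).subgroupOf R)).exists_le_sylow
    refine ⟨S, le_antisymm (fun s hs => ?_) hS⟩
    obtain ⟨v, hv, a, ha, hva⟩ := exists_mul_of_mem_layer V P s.2
    have haS : (⟨a, ha.2⟩ : R) ∈ (S : Subgroup R) := hS (Subgroup.mem_subgroupOf.mpr ha)
    have hvR : v ∈ (S : Subgroup R).map R.subtype :=
      ⟨s * (⟨a, ha.2⟩ : R)⁻¹, (S : Subgroup R).mul_mem hs ((S : Subgroup R).inv_mem haS), by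
        simp [← hva]⟩
    have hv1 : v = 1 := eq_one_of_mem V hVp hv (S.2.map _) hvR
    rw [hv1, one_mul] at hva
    exact Subgroup.mem_subgroupOf.mpr (hva ▸ ha)
  haveI : Finite (Sylow p R) := inferInstance
  have htop := Sylow.normalizer_sup_eq_top S
  have hmap : (S : Subgroup R).map R.subtype = (P : Subgroup Q) ⊓ R := by
    rw [hS, Subgroup.map_subgroupOf_eq_of_le inf_le_right]
  rw [hmap] at htop
  obtain ⟨r, hr, n, hn, hrn⟩ := Subgroup.mem_sup_of_normal_left.mp
    (by rw [sup_comm, htop]; trivial :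
      h ∈ R ⊔ Subgroup.normalizer ((((P : Subgroup Q) ⊓ R : Subgroup Q)) : Set Q))
  obtain ⟨v, hv, a, ha, rfl⟩ := exists_mul_of_mem_layer V P hr
  refine ⟨v, hv, a * n, fun c hc => ?_, by rw [← hrn, mul_assoc]⟩
  exact (Subgroup.mem_normalizer_iff.mp
    ((Subgroup.normalizer _).mul_mem (Subgroup.le_normalizer ha) hn) c).mp hc

/-- The centre of the layer Sylow subgroup. -/
noncomputable abbrev layerCenter : Subgroup Q :=
  (Subgroup.center ↥((P : Subgroup Q) ⊓ layer (p := p) V)).map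
    ((P : Subgroup Q) ⊓ layer (p := p) V).subtype

theorem layerCenter_le : layerCenter V P ≤ (P : Subgroup Q) ⊓ layer (p := p) V :=
  Subgroup.map_subtype_le _

theorem layerCenter_comm {z : Q} (hz : z ∈ layerCenter V P) {a : Q}
    (ha : a ∈ (P : Subgroup Q) ⊓ layer (p := p) V) : z * a = a * z := by
  obtain ⟨z', hz', rfl⟩ := hz
  exact (congrArg Subtype.val (Subgroup.mem_center_iff.mp hz' ⟨a, ha⟩)).symm

theorem mem_layerCenter {z : Q} (hzA : z ∈ (P : Subgroup Q) ⊓ layer (p := p) V)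
    (h : ∀ a ∈ (P : Subgroup Q) ⊓ layer (p := p) V, a * z = z * a) : z ∈ layerCenter V P :=
  ⟨⟨z, hzA⟩, Subgroup.mem_center_iff.mpr fun a => Subtype.ext (h a a.2), rfl⟩

include hO hVp hVab in
theorem van_center {z : Q} (hz : z ∈ layerCenter V P) (hz1 : z ≠ 1) {w : Q} (hw : w ∈ V) :
    Van (z * w) := by
  refine van_regular V (layerCenter V P) hVab
    (fun a ha b hb => layerCenter_comm V P ha (layerCenter_le V P hb)) ?_
    (fun a ha h => faithful hO V hVp hVab P (layerCenter_le V P ha) h) (fun h => ?_) hz hz1 hw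
  · obtain ⟨k, hk⟩ := (P.2.to_le ((layerCenter_le V P).trans inf_le_left)).exists_card_eq
    rw [hk]
    exact (hp.out.coprime_iff_not_dvd.mpr hVp).pow_left k
  · obtain ⟨v, hv, n, hn, hvn⟩ := cover V hVp P h
    obtain ⟨-, -, n', hn', hn2⟩ := cover V hVp P h
    refine ⟨v, hv, n, fun a ha => ?_, hvn⟩
    refine mem_layerCenter V P (hn a (layerCenter_le V P ha)) fun b hb => ?_
    have hinj : Function.Bijective fun c : ↥((P : Subgroup Q) ⊓ layer (p := p) V) =>
        (⟨n * c * n⁻¹, hn c c.2⟩ : ↥((P : Subgroup Q) ⊓ layer (p := p) V)) :=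
      Finite.injective_iff_bijective.mp fun c d hcd => Subtype.ext
        (mul_left_cancel (mul_right_cancel (congrArg Subtype.val hcd)))
    obtain ⟨c, hc⟩ := hinj.2 ⟨b, hb⟩
    have hbc : n * (c : Q) * n⁻¹ = b := congrArg Subtype.val hc
    rw [← hbc]
    calc n * (c : Q) * n⁻¹ * (n * a * n⁻¹) = n * ((c : Q) * a) * n⁻¹ := by group
      _ = n * (a * c) * n⁻¹ := by rw [layerCenter_comm V P ha c.2]
      _ = n * a * n⁻¹ * (n * c * n⁻¹) := by group

theorem layerCenter_ne_bot (hne : (P : Subgroup Q) ⊓ layer (p := p) V ≠ ⊥) :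
    layerCenter V P ≠ ⊥ := by
  haveI := (Subgroup.nontrivial_iff_ne_bot _).mpr hne
  haveI := IsPGroup.center_nontrivial (P.2.to_le (H := (P : Subgroup Q) ⊓ layer (p := p) V)
    inf_le_left)
  rw [ne_eq, Subgroup.map_eq_bot_iff_of_injective _ (Subgroup.subtype_injective _)]
  exact (Subgroup.nontrivial_iff_ne_bot _).mp inferInstance

end Layer

/-- Without a normal `p`-subgroup some element of order `p` vanishes. -/
theorem exists_van (n : ℕ) : ∀ (Q : Type u) [Group Q] [Finite Q] [Group.IsSolvable Q],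
    Nat.card Q < n → Cfsg.pCore p Q = ⊥ → p ∣ Nat.card Q → ∃ u : Q, orderOf u = p ∧ Van u := by
  induction n with
  | zero => intro Q _ _ _ h; omega
  | succ n ih =>
    intro Q _ _ _ hn hO hdvd
    obtain ⟨V, hVn, hVne, hVab, hVp⟩ := exists_minimal_pprime hO hdvd
    obtain ⟨P⟩ := (inferInstance : Nonempty (Sylow p Q))
    by_cases hA : (P : Subgroup Q) ⊓ layer (p := p) V = ⊥
    · have hO' : Cfsg.pCore p (Q ⧸ V) = ⊥ := by
        rw [eq_bot_iff]
        intro x hx
        obtain ⟨r, rfl⟩ := QuotientGroup.mk'_surjective V x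
        obtain ⟨v, hv, a, ha, rfl⟩ := exists_mul_of_mem_layer V P hx
        rw [hA, Subgroup.mem_bot] at ha
        rw [Subgroup.mem_bot, ha, mul_one]
        exact (QuotientGroup.eq_one_iff v).mpr hv
      have hdvd' : p ∣ Nat.card (Q ⧸ V) := by
        rw [Subgroup.card_eq_card_quotient_mul_card_subgroup V] at hdvd
        exact (hp.out.dvd_mul.mp hdvd).resolve_right hVp
      obtain ⟨ub, hu, hVu⟩ := ih (Q ⧸ V)
        (lt_of_lt_of_le (Basics.card_quotient_lt hVne) (Nat.lt_succ_iff.mp hn)) hO' hdvd'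
      obtain ⟨g, rfl⟩ := QuotientGroup.mk'_surjective V ub
      -- a lift of order `p`
      have hgp : (g ^ p) ∈ V := (QuotientGroup.eq_one_iff _).mp (by
        rw [← QuotientGroup.mk'_apply, map_pow, ← hu, pow_orderOf_eq_one])
      obtain ⟨i, hi⟩ := Nat.exists_mul_mod_eq_one_of_coprime
        ((hp.out.coprime_iff_not_dvd.mpr hVp).symm) hp.out.one_lt
      set g' := g ^ (Nat.card V * i) with hg'
      have hmk : QuotientGroup.mk' V g' = QuotientGroup.mk' V g := by
        rw [hg', map_pow, ← pow_mod_orderOf, hu, hi.2, pow_one]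
      have hg'1 : g' ^ p = 1 := by
        have h1 : (g ^ p) ^ Nat.card V = 1 :=
          congrArg Subtype.val (pow_card_eq_one' (x := (⟨g ^ p, hgp⟩ : V)))
        rw [hg', ← pow_mul, show Nat.card V * i * p = p * Nat.card V * i by ring, pow_mul, pow_mul,
          h1, one_pow]
      refine ⟨g', orderOf_eq_prime hg'1 fun h => ?_,
        van_of_map _ (QuotientGroup.mk'_surjective V) (by rw [hmk]; exact hVu)⟩
      rw [h, map_one] at hmk
      rw [← hmk, orderOf_one] at hu
      exact hp.out.one_lt.ne hu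
    · have hne := layerCenter_ne_bot V P hA
      haveI := (Subgroup.nontrivial_iff_ne_bot _).mpr hne
      obtain ⟨k, hk⟩ := (P.2.to_le ((layerCenter_le V P).trans inf_le_left)).exists_card_eq
      have hpd : p ∣ Nat.card ↥(layerCenter V P) := by
        rcases k with _ | k
        · exact absurd hk (Finite.one_lt_card (α := layerCenter V P)).ne'
        · exact hk ▸ dvd_pow_self p k.succ_ne_zero
      obtain ⟨z, hz⟩ := exists_prime_orderOf_dvd_card' p hpd
      refine ⟨z, by rw [Subgroup.orderOf_coe, hz], ?_⟩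
      have hz1 : (z : Q) ≠ 1 := fun h => by
        rw [← Subgroup.orderOf_coe, h, orderOf_one] at hz
        exact hp.out.one_lt.ne hz
      simpa using van_center hO V hVp hVab P z.2 hz1 V.one_mem

theorem not_dvd_quotient_card {Q : Type u} [Group Q] [Finite Q] {N : Subgroup Q} [N.Normal]
    {P : Subgroup Q} (hP : IsPGroup p P) (h : ¬ p ∣ Nat.card (Q ⧸ N)) : P ≤ N := by
  intro x hx
  obtain ⟨k, hk⟩ := (IsPGroup.iff_orderOf.mp hP) ⟨x, hx⟩
  rw [Subgroup.orderOf_mk] at hk
  have hd : orderOf (QuotientGroup.mk' N x) ∣ p ^ k := hk ▸ orderOf_map_dvd _ x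
  obtain ⟨j, -, hj⟩ := (Nat.dvd_prime_pow hp.out).mp hd
  rcases j with _ | j
  · exact (QuotientGroup.eq_one_iff x).mp (orderOf_eq_one_iff.mp (hj.trans (pow_zero p)))
  · exact absurd ((hj ▸ dvd_pow_self p j.succ_ne_zero :
      p ∣ orderOf (QuotientGroup.mk' N x)).trans (orderOf_dvd_natCard _)) h

/-- With a single order, a Sylow subgroup of a core-free quotient has order at most `p`. -/
theorem card_sylow_le {G : Type u} [Group G] [Finite G] [Group.IsSolvable G] {b : ℕ}
    (hb : ∀ g : G, p ∣ orderOf g → Van g → orderOf g = b) (n : ℕ) :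
    ∀ (Q : Type u) [Group Q] [Finite Q] [Group.IsSolvable Q] (f : G →* Q), Function.Surjective f →
      Nat.card Q < n → Cfsg.pCore p Q = ⊥ → ∀ P : Sylow p Q, Nat.card P ≤ p := by
  induction n with
  | zero => intro Q _ _ _ f _ h; omega
  | succ n ih =>
    intro Q _ _ _ f hf hn hO P
    by_cases hdvd : p ∣ Nat.card Q
    swap
    · obtain ⟨k, hk⟩ := P.2.exists_card_eq
      rcases k with _ | k
      · rw [hk, pow_zero]; exact hp.out.one_lt.le
      · exact absurd ((hk ▸ dvd_pow_self p k.succ_ne_zero : p ∣ Nat.card P).trans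
          (Subgroup.card_subgroup_dvd_card _)) hdvd
    obtain ⟨V, hVn, hVne, hVab, hVp⟩ := exists_minimal_pprime hO hdvd
    by_cases hA : (P : Subgroup Q) ⊓ layer (p := p) V = ⊥
    · have hO' : Cfsg.pCore p (Q ⧸ V) = ⊥ := by
        rw [eq_bot_iff]
        intro x hx
        obtain ⟨r, rfl⟩ := QuotientGroup.mk'_surjective V x
        obtain ⟨v, hv, a, ha, rfl⟩ := exists_mul_of_mem_layer V P hx
        rw [hA, Subgroup.mem_bot] at ha
        rw [Subgroup.mem_bot, ha, mul_one]
        exact (QuotientGroup.eq_one_iff v).mpr hv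
      have hs := QuotientGroup.mk'_surjective V
      have h1 := ih (Q ⧸ V) ((QuotientGroup.mk' V).comp f) (hs.comp hf)
        (lt_of_lt_of_le (Basics.card_quotient_lt hVne) (Nat.lt_succ_iff.mp hn)) hO'
        (P.mapSurjective hs)
      refine le_trans (le_of_eq ?_) h1
      refine Nat.card_congr (Equiv.ofBijective (fun x : P =>
        (⟨QuotientGroup.mk' V x, Subgroup.mem_map_of_mem _ x.2⟩ : (P.mapSurjective hs : Subgroup _)))
        ⟨fun x y hxy => ?_, fun ⟨c, hc⟩ => ?_⟩)
      · have h2 : (x : Q)⁻¹ * y ∈ V := QuotientGroup.eq.mp (congrArg Subtype.val hxy)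
        exact Subtype.ext (inv_mul_eq_one.mp (eq_one_of_mem V hVp h2 P.2
          ((P : Subgroup Q).mul_mem ((P : Subgroup Q).inv_mem x.2) y.2)))
      · obtain ⟨x, hx, rfl⟩ := hc
        exact ⟨⟨x, hx⟩, rfl⟩
    have hG : Good p Q := good_of_order f hf hb
    set A := (P : Subgroup Q) ⊓ layer (p := p) V with hAdef
    -- elements of `A` with all translates vanishing
    have key : ∀ u : Q, u ∈ A → u ≠ 1 → (∀ v ∈ V, Van (u * v)) → u ^ p = 1 →
        ∀ v ∈ V, u * v = v * u → v = 1 := by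
      intro u huA hu1 hvan hup v hv hc
      by_contra hv1
      refine hG.2 u v hup hu1 hc hv1 (fun h => hVp (h.trans
        (Subgroup.orderOf_coe (⟨v, hv⟩ : V) ▸ orderOf_dvd_natCard _))) ?_ (hvan v hv)
      simpa using hvan 1 V.one_mem
    have hpdvd : ∀ u ∈ (P : Subgroup Q), u ≠ 1 → p ∣ orderOf u := by
      intro u hu hu1
      obtain ⟨k, hk⟩ := (IsPGroup.iff_orderOf.mp P.2) ⟨u, hu⟩
      rw [Subgroup.orderOf_mk] at hk
      rcases k with _ | k
      · exact absurd (orderOf_eq_one_iff.mp (hk.trans (pow_zero p))) hu1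
      · exact hk ▸ dvd_pow_self p k.succ_ne_zero
    have hZvan : ∀ z ∈ layerCenter V P, z ≠ 1 → ∀ v ∈ V, Van (z * v) := fun z hz hz1 v hv =>
      van_center hO V hVp hVab P hz hz1 hv
    have hZexp : ∀ z ∈ layerCenter V P, z ^ p = 1 := by
      intro z hz
      by_contra h
      have hz1 : z ≠ 1 := fun e => h (by rw [e, one_pow])
      have hzp := (layerCenter V P).pow_mem hz p
      refine hG.1 z (hpdvd _ (layerCenter_le V P hzp).1 h) ?_ ?_
      · simpa using hZvan z hz hz1 1 V.one_mem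
      · simpa using hZvan _ hzp h 1 V.one_mem
    obtain ⟨z₀, hz₀, hz₀1⟩ := (layerCenter V P).ne_bot_iff_exists_ne_one.mp
      (layerCenter_ne_bot V P hA) |> fun ⟨z, hz⟩ => (⟨(z : Q), z.2, fun e => hz (Subtype.ext e)⟩ :
        ∃ z : Q, z ∈ layerCenter V P ∧ z ≠ 1)
    have hz₀f := key z₀ (layerCenter_le V P hz₀) hz₀1 (hZvan z₀ hz₀ hz₀1) (hZexp z₀ hz₀)
    have hfpf : ∀ e : Q, z₀ * e = e * z₀ → e ^ p = 1 →
        (∀ j : ℕ, ∀ v ∈ V, e * z₀ ^ j * v = v * (e * z₀ ^ j) → v = 1) → False :=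
      fun e hc he hfe => hVne (eq_bot_of_fpf V hVab hVp hc (hZexp z₀ hz₀) he hz₀f hfe)
    -- the centre is cyclic
    have hZcyc : ∀ e ∈ layerCenter V P, e ∈ Subgroup.zpowers z₀ := by
      intro e he
      by_contra hne
      refine hfpf e (layerCenter_comm V P hz₀ (layerCenter_le V P he)) (hZexp e he) fun j => ?_
      have hj := (layerCenter V P).mul_mem he ((layerCenter V P).pow_mem hz₀ j)
      have hj1 : e * z₀ ^ j ≠ 1 := fun h => hne (by
        rw [eq_inv_of_mul_eq_one_left h]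
        exact Subgroup.inv_mem _ (Subgroup.pow_mem _ (Subgroup.mem_zpowers z₀) j))
      exact key _ (layerCenter_le V P hj) hj1 (hZvan _ hj hj1) (hZexp _ hj)
    have hz₀ord : orderOf z₀ = p := orderOf_eq_prime (hZexp z₀ hz₀) hz₀1
    have hZeq : layerCenter V P = Subgroup.zpowers z₀ :=
      le_antisymm hZcyc (Subgroup.zpowers_le.mpr hz₀)
    -- the second centre
    have hA_eq : A ≤ layerCenter V P := by
      by_contra hnot
      obtain ⟨x, hxA, hxZ⟩ := SetLike.not_le_iff_exists.mp hnot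
      have hAp : IsPGroup p A := P.2.to_le inf_le_left
      haveI : Nontrivial (↥A ⧸ Subgroup.center ↥A) := by
        refine ⟨⟨(QuotientGroup.mk (⟨x, hxA⟩ : A) : ↥A ⧸ Subgroup.center ↥A), 1, fun h => hxZ ?_⟩⟩
        exact ⟨⟨x, hxA⟩, (QuotientGroup.eq_one_iff _).mp h, rfl⟩
      haveI := IsPGroup.center_nontrivial (hAp.to_quotient (Subgroup.center ↥A))
      obtain ⟨wb, hwbar⟩ := exists_ne (1 : Subgroup.center (↥A ⧸ Subgroup.center ↥A))
      obtain ⟨w, hwq⟩ := QuotientGroup.mk_surjective (wb : ↥A ⧸ Subgroup.center ↥A)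
      have hwZ : (w : Q) ∉ layerCenter V P := by
        rintro ⟨w', hw', hww⟩
        apply hwbar
        refine Subtype.ext ?_
        rw [← hwq]
        exact (QuotientGroup.eq_one_iff w).mpr (Subtype.ext hww ▸ hw')
      have hcom : ∀ a ∈ A, a * (w : Q) * a⁻¹ * (w : Q)⁻¹ ∈ layerCenter V P := by
        intro a ha
        have h1 : (((⟨a, ha⟩ : A) * w * (⟨a, ha⟩ : A)⁻¹ * w⁻¹ : A) : ↥A ⧸ Subgroup.center ↥A) = 1 := by
          simp only [QuotientGroup.mk_mul, QuotientGroup.mk_inv, hwq]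
          rw [Subgroup.mem_center_iff.mp wb.2, mul_inv_cancel_right, mul_inv_cancel]
        exact ⟨_, (QuotientGroup.eq_one_iff _).mp h1, rfl⟩
      -- such elements vanish on their cosets
      have hB : ∀ u ∈ A, u ∉ layerCenter V P →
          (∀ a ∈ A, a * u * a⁻¹ * u⁻¹ ∈ layerCenter V P) → ∀ v ∈ V, Van (u * v) := by
        intro u hu huZ hucom v hv
        obtain ⟨a, ha, hne⟩ : ∃ a ∈ A, a * u * a⁻¹ * u⁻¹ ≠ 1 := by
          by_contra h
          push Not at h
          exact huZ (mem_layerCenter V P hu fun a ha =>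
            mul_inv_eq_iff_eq_mul.mp (mul_inv_eq_one.mp (h a ha)))
        set π := QuotientGroup.mk' V with hπ
        have hs := QuotientGroup.mk'_surjective V
        refine van_of_map π hs ?_
        rw [map_mul, show π v = 1 from (QuotientGroup.eq_one_iff v).mpr hv, mul_one]
        set C : Subgroup (Q ⧸ V) := (layerCenter V P).map π with hC
        have hRA : ∀ x ∈ Cfsg.pCore p (Q ⧸ V), ∃ a ∈ A, π a = x := by
          intro x hx
          obtain ⟨r, rfl⟩ := hs x
          obtain ⟨v', hv', a, ha, rfl⟩ := exists_mul_of_mem_layer V P hx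
          exact ⟨a, ha, by rw [map_mul, show π v' = 1 from (QuotientGroup.eq_one_iff v').mpr hv',
            one_mul]⟩
        haveI : C.Normal := by
          refine ⟨fun y hy g => ?_⟩
          obtain ⟨c, hc, rfl⟩ := hy
          obtain ⟨h, rfl⟩ := hs g
          obtain ⟨v', hv', m, hm, rfl⟩ := cover V hVp P h
          have hmc : m * c * m⁻¹ ∈ layerCenter V P := by
            refine mem_layerCenter V P (hm c (layerCenter_le V P hc)) fun b hb => ?_
            have hb' : m⁻¹ * b * m ∈ A := by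
              have hinj : Function.Bijective fun t : A => (⟨m * t * m⁻¹, hm t t.2⟩ : A) :=
                Finite.injective_iff_bijective.mp fun t d htd => Subtype.ext
                  (mul_left_cancel (mul_right_cancel (congrArg Subtype.val htd)))
              obtain ⟨t, ht⟩ := hinj.2 ⟨b, hb⟩
              have : m * (t : Q) * m⁻¹ = b := congrArg Subtype.val ht
              rw [← this]
              simpa [mul_assoc] using t.2
            calc b * (m * c * m⁻¹) = m * ((m⁻¹ * b * m) * c) * m⁻¹ := by group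
              _ = m * (c * (m⁻¹ * b * m)) * m⁻¹ := by rw [layerCenter_comm V P hc hb']
              _ = m * c * m⁻¹ * b := by group
          refine ⟨_, hmc, ?_⟩
          rw [map_mul π v' m, show π v' = 1 from (QuotientGroup.eq_one_iff v').mpr hv', one_mul,
            map_mul, map_mul, map_inv]
        have hCp : (Nat.card C).Prime := by
          have e : C = Subgroup.zpowers (π z₀) := by rw [hC, hZeq, MonoidHom.map_zpowers]
          rw [e, Nat.card_zpowers]
          have hd : orderOf (π z₀) ∣ p := hz₀ord ▸ orderOf_map_dvd π z₀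
          rcases (Nat.dvd_prime hp.out).mp hd with h | h
          · exact absurd (eq_one_of_mem V hVp ((QuotientGroup.eq_one_iff z₀).mp
              (orderOf_eq_one_iff.mp h)) P.2 (layerCenter_le V P hz₀).1) hz₀1
          · exact h ▸ hp.out
        refine van_second_center (Cfsg.pCore p (Q ⧸ V)) C ?_ ?_ hCp (a := π a) (ha.2) (hu.2)
          ⟨_, hucom a ha, by simp [map_mul]⟩ ?_
        · rintro _ ⟨c, hc, rfl⟩
          exact (layerCenter_le V P hc).2
        · rintro _ ⟨c, hc, rfl⟩ x hx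
          obtain ⟨a', ha', rfl⟩ := hRA x hx
          rw [← map_mul, ← map_mul, layerCenter_comm V P hc ha']
        · intro h
          refine hne (eq_one_of_mem V hVp ((QuotientGroup.eq_one_iff _).mp ?_) P.2
            (layerCenter_le V P (hucom a ha)).1)
          simpa [map_mul, hπ] using h
      have hwp : (w : Q) ^ p = 1 := by
        by_contra h
        refine hG.1 w (hpdvd _ ((P : Subgroup Q).pow_mem w.2.1 p) h) ?_ ?_
        · simpa using hB w w.2 hwZ hcom 1 V.one_mem
        · by_cases hc : (w : Q) ^ p ∈ layerCenter V P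
          · simpa using hZvan _ hc h 1 V.one_mem
          · refine (mul_one ((w : Q) ^ p)) ▸ hB _ (A.pow_mem w.2 p) hc (fun a ha => ?_) 1 V.one_mem
            have h1 : (((⟨a, ha⟩ : A) * w ^ p * (⟨a, ha⟩ : A)⁻¹ * (w ^ p)⁻¹ : A) :
                ↥A ⧸ Subgroup.center ↥A) = 1 := by
              simp only [QuotientGroup.mk_mul, QuotientGroup.mk_inv, QuotientGroup.mk_pow, hwq]
              rw [Subgroup.mem_center_iff.mp ((Subgroup.center _).pow_mem wb.2 p),
                mul_inv_cancel_right, mul_inv_cancel]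
            exact ⟨_, (QuotientGroup.eq_one_iff _).mp h1, rfl⟩
      refine hfpf w (layerCenter_comm V P hz₀ w.2) hwp fun j => ?_
      have hjA := A.mul_mem w.2 (A.pow_mem (layerCenter_le V P hz₀) j)
      have hjZ : (w : Q) * z₀ ^ j ∉ layerCenter V P := fun h => hwZ (by
        simpa using (layerCenter V P).mul_mem h
          ((layerCenter V P).inv_mem ((layerCenter V P).pow_mem hz₀ j)))
      refine key _ hjA (fun h => hjZ (h ▸ (layerCenter V P).one_mem)) (hB _ hjA hjZ ?_) ?_
      · intro a ha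
        have e : a * ((w : Q) * z₀ ^ j) * a⁻¹ * ((w : Q) * z₀ ^ j)⁻¹ = a * w * a⁻¹ * (w : Q)⁻¹ := by
          have hz : z₀ ^ j * a⁻¹ = a⁻¹ * z₀ ^ j :=
            (Commute.pow_left (layerCenter_comm V P hz₀ (A.inv_mem ha)) j)
          calc a * ((w : Q) * z₀ ^ j) * a⁻¹ * ((w : Q) * z₀ ^ j)⁻¹
              = a * w * (z₀ ^ j * a⁻¹) * (z₀ ^ j)⁻¹ * (w : Q)⁻¹ := by group
            _ = a * w * a⁻¹ * (w : Q)⁻¹ := by rw [hz]; group
        rw [e]; exact hcom a ha
      · rw [((Commute.pow_left (layerCenter_comm V P hz₀ w.2) j).symm).mul_pow, hwp, one_mul,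
          ← pow_mul, mul_comm, pow_mul, hZexp z₀ hz₀, one_pow]
    have hAcard : Nat.card A = p := by
      rw [show A = Subgroup.zpowers z₀ from le_antisymm (hA_eq.trans hZcyc)
        (Subgroup.zpowers_le.mpr (layerCenter_le V P hz₀)), Nat.card_zpowers, hz₀ord]
    -- above the layer
    by_contra hgt
    set R := layer (p := p) V with hRdef
    have hPR : ¬ (P : Subgroup Q) ≤ R := fun h => hgt (by
      rw [show A = (P : Subgroup Q) from inf_eq_left.mpr h] at hAcard
      exact hAcard.le)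
    have hOR : Cfsg.pCore p (Q ⧸ R) = ⊥ := by
      set g : Q ⧸ V →* Q ⧸ R := QuotientGroup.map V R (MonoidHom.id Q)
        (fun x hx => le_layer V hx)
      have hgker : g.ker = Cfsg.pCore p (Q ⧸ V) := by
        ext x
        obtain ⟨y, rfl⟩ := QuotientGroup.mk'_surjective V x
        exact QuotientGroup.eq_one_iff y
      refine pCore_eq_bot_of_pgroup_ker g ?_ (by rw [hgker]; exact Basics.pCore_isPGroup p) hgker.ge
      intro x
      obtain ⟨y, rfl⟩ := QuotientGroup.mk'_surjective R x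
      exact ⟨QuotientGroup.mk' V y, rfl⟩
    have hdR : p ∣ Nat.card (Q ⧸ R) := by
      by_contra h
      exact hPR (not_dvd_quotient_card P.2 h)
    obtain ⟨ub, hu, hVu⟩ := exists_van (Nat.card (Q ⧸ R) + 1) (Q ⧸ R) (Nat.lt_succ_self _) hOR hdR
    have hsR := QuotientGroup.mk'_surjective R
    -- a conjugate of `ub` in the image of `P`
    obtain ⟨y, hyP, hyR, ⟨c₀, hyu'⟩, hyvan⟩ : ∃ y ∈ (P : Subgroup Q), y ∉ R ∧
        (∃ c : Q ⧸ R, QuotientGroup.mk' R y = c * ub * c⁻¹) ∧ ∀ v ∈ R, Van (y * v) := by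
      obtain ⟨P', hP'⟩ := (IsPGroup.of_card (n := 1) (by
        rw [Nat.card_zpowers, hu, pow_one]) : IsPGroup p (Subgroup.zpowers ub)).exists_le_sylow
      obtain ⟨c, hc⟩ := MulAction.exists_smul_eq (Q ⧸ R) P' (P.mapSurjective hsR)
      have hmem : c * ub * c⁻¹ ∈ (P : Subgroup Q).map (QuotientGroup.mk' R) := by
        rw [← Sylow.coe_mapSurjective hsR, ← hc, Sylow.coe_subgroup_smul]
        exact Subgroup.smul_mem_pointwise_smul ub (MulAut.conj c) _ (hP' (Subgroup.mem_zpowers ub))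
      obtain ⟨y, hy, hyu⟩ := hmem
      refine ⟨y, hy, fun h => ?_, ⟨c, hyu⟩, fun v hv => van_of_map _ hsR ?_⟩
      · rw [show QuotientGroup.mk' R y = 1 from (QuotientGroup.eq_one_iff y).mpr h] at hyu
        have : ub = 1 := by
          have := hyu.symm
          rwa [mul_inv_eq_one, mul_eq_left] at this
        rw [this, orderOf_one] at hu
        exact hp.out.one_lt.ne hu
      · rw [map_mul, show QuotientGroup.mk' R v = 1 from (QuotientGroup.eq_one_iff v).mpr hv,
          mul_one, hyu]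
        exact van_conj hVu c
    have hy1 : y ≠ 1 := fun h => hyR (h ▸ R.one_mem)
    -- `z₀` is central in `P`
    have hcent : ∀ x ∈ (P : Subgroup Q), z₀ * x = x * z₀ := by
      intro x hx
      have hRn : R.Normal := by rw [hRdef]; infer_instance
      set A' : Subgroup (P : Subgroup Q) := A.subgroupOf P with hA'
      haveI : A'.Normal := ⟨fun a ha g => Subgroup.mem_subgroupOf.mpr
        ⟨((g * a * g⁻¹ : (P : Subgroup Q))).2,
          hRn.conj_mem _ (Subgroup.mem_subgroupOf.mp ha).2 (g : Q)⟩⟩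
      have hcA' : Nat.card A' = p := by
        rw [hA', Nat.card_congr (Subgroup.subgroupOfEquivOfLe inf_le_left).toEquiv, hAcard]
      have := Subgroup.mem_center_iff.mp (OddLocal.le_center_of_card_le P.2 A' hcA'.le
        (Subgroup.mem_subgroupOf.mpr (layerCenter_le V P hz₀)
        : (⟨z₀, (layerCenter_le V P hz₀).1⟩ : (P : Subgroup Q)) ∈ A')) ⟨x, hx⟩
      exact (congrArg Subtype.val this).symm
    have hyp : y ^ p = 1 := by
      by_contra h
      have hypR : y ^ p ∈ R := by
        apply (QuotientGroup.eq_one_iff _).mp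
        rw [← QuotientGroup.mk'_apply, map_pow, hyu', conj_pow, orderOf_dvd_iff_pow_eq_one.mp hu.dvd]
        simp
      refine hG.1 y (hpdvd _ ((P : Subgroup Q).pow_mem hyP p) h) ?_ ?_
      · simpa using hyvan 1 R.one_mem
      · simpa using hZvan _ (hA_eq ⟨(P : Subgroup Q).pow_mem hyP p, hypR⟩) h 1 V.one_mem
    refine hfpf y (hcent y hyP) hyp fun j v hv hc => ?_
    by_contra hv1
    have hjR : z₀ ^ j ∈ R := R.pow_mem (layerCenter_le V P hz₀).2 j
    refine hG.2 (y * z₀ ^ j) v ?_ (fun h => hyR ?_) hc hv1 (fun h => hVp (h.trans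
      (Subgroup.orderOf_coe (⟨v, hv⟩ : V) ▸ orderOf_dvd_natCard _)))
      (hyvan _ hjR) ?_
    · rw [((Commute.pow_left (hcent y hyP) j).symm).mul_pow, hyp, one_mul, ← pow_mul, mul_comm,
        pow_mul, hZexp z₀ hz₀, one_pow]
    · rw [eq_inv_of_mul_eq_one_left h]; exact R.inv_mem hjR
    · rw [mul_assoc]
      have : z₀ ^ j * v ∈ R := R.mul_mem hjR (le_layer V hv)
      exact hyvan _ this


/-- The conclusion for the group itself. -/
theorem card_sylow_map_le {G : Type u} [Group G] [Finite G] [Group.IsSolvable G] {p : ℕ}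
    [Fact p.Prime] {b : ℕ} (hb : ∀ g : G, p ∣ orderOf g → Van g → orderOf g = b) (P : Sylow p G) :
    Nat.card ↥((P : Subgroup G).map (QuotientGroup.mk' (Cfsg.pCore p G))) ≤ p :=
  card_sylow_le hb (Nat.card (G ⧸ Cfsg.pCore p G) + 1) (G ⧸ Cfsg.pCore p G)
    (QuotientGroup.mk' _) (QuotientGroup.mk'_surjective _) (Nat.lt_succ_self _)
    (Basics.pCore_quotient_eq_bot p) (P.mapSurjective (QuotientGroup.mk'_surjective _))

end Cfsg.Agent.SingularOrder
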